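import Groth.Agent.DCompRHomLib.CoExact
import Groth.Agent.RHomCompLib.Refl
import Groth.Agent.DCompLib.Range

/-!
# Derived completion commutes with `RHom` out of a fixed complex
-/

set_option autoImplicit false
set_option linter.all false
set_option maxHeartbeats 1000000

universe u

open CategoryTheory CategoryTheory.Limits DTen DTenLib
open CategoryTheory.Pretriangulated (Triangle)
open Groth.Agent
open Groth.Agent.DCompLib (Comp resD extD φA)

attribute [local instance] HasDerivedCategory.standard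

noncomputable section

namespace DCompRHomLib

variable {A : Type u} [CommRing A]

open Groth.Agent.DRingLib (hF toLocD resH) in
/-- Objects on which `g` is invertible are local at `g`. -/
theorem isIso_toLocD (g : A) (W : Dual.D A) [IsIso (g • 𝟙 W)] : IsIso (toLocD g W) := by
  rw [DerivedCategory.isIso_iff]
  intro i
  haveI := DRingLib.isLocalizedModule_HD_toLocD (g := g) W i
  have h1 : Function.Bijective fun x : Dual.HD A W i => g • x := by
    have h := (ConcreteCategory.isIso_iff_bijective ((hF A i).map (g • 𝟙 W))).1 inferInstance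
    convert h using 1
    exact funext fun x => (DCompLib.map_smul_id g W i x).symm
  have hpow : ∀ n : ℕ, Function.Bijective fun x : Dual.HD A W i => g ^ n • x := fun n => by
    induction n with
    | zero => simp only [pow_zero, one_smul]; exact Function.bijective_id
    | succ n ih =>
      have : (fun x : Dual.HD A W i => g ^ (n + 1) • x) = (fun x => g ^ n • x) ∘ (fun x => g • x) :=
        funext fun x => by simp [pow_succ, mul_smul]
      rw [this]
      exact ih.comp h1
  rw [ConcreteCategory.isIso_iff_bijective]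
  refine ⟨fun x y hxy => ?_, fun y => ?_⟩
  · obtain ⟨⟨_, n, rfl⟩, hn⟩ :=
      (IsLocalizedModule.eq_iff_exists (Submonoid.powers g) ((hF A i).map (toLocD g W)).hom).1 hxy
    exact (hpow n).1 hn
  · obtain ⟨⟨x, ⟨_, n, rfl⟩⟩, hn⟩ :=
      IsLocalizedModule.surj (Submonoid.powers g) ((hF A i).map (toLocD g W)).hom y
    obtain ⟨x', rfl⟩ := (hpow n).2 x
    refine ⟨x', IsLocalizedModule.smul_injective ((hF A i).map (toLocD g W)).hom
      (⟨g ^ n, n, rfl⟩ : Submonoid.powers g) ?_⟩
    exact (map_smul ((hF A i).map (toLocD g W)).hom (g ^ n) x').symm.trans hn.symm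

/-- `f` is invertible on objects from `D(A_f)`. -/
theorem isIso_smul_resD (f : A) (X : Dual.D (Localization.Away f)) : IsIso (f • 𝟙 ((resD f).obj X)) := by
  rw [DerivedCategory.isIso_iff]
  intro i
  rw [ConcreteCategory.isIso_iff_bijective]
  let e := ((DRingLib.resH f i).app X).toLinearEquiv
  have hu : Function.Bijective fun z : ((DRingLib.hF (Localization.Away f) i).obj X : Type u) => φA f f • z :=
    (IsLocalization.Away.algebraMap_isUnit (S := Localization.Away f) f).smul_bijective
  refine (congrArg Function.Bijective (funext fun x => ?_)).mpr (e.symm.bijective.comp (hu.comp e.bijective))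
  refine (DCompLib.map_smul_id f _ i x).trans (e.injective ?_)
  refine (map_smul e f x).trans ?_
  exact (e.apply_symm_apply _).symm

variable {I : Ideal A}

/-- Objects on which an element of the ideal is invertible see no complete objects. -/
theorem leftOrthogonal_of_isIso_smul {f : A} (hf : f ∈ I) (Y : Dual.D A) [IsIso (f • 𝟙 Y)] :
    (DRing.IsDerivedComplete I).leftOrthogonal Y := fun W g hW => by
  haveI := isIso_toLocD f Y
  refine (cancel_epi (inv (DRingLib.toLocD f Y))).1 ?_
  exact (DCompLib.leftOrthogonal_resD hf _ _ hW).trans comp_zero.symm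

variable [HasLTen A] [HasRHom A] (L : Dual.D A)

variable (I) in
/-- Invisible to complete objects, before and after `RHom(L, -)`. -/
def Inv (Z : Dual.D A) : Prop :=
  (DRing.IsDerivedComplete I).leftOrthogonal Z ∧
    (DRing.IsDerivedComplete I).leftOrthogonal ((RHomR A L).obj Z)

theorem inv_of_isIso_smul {f : A} (hf : f ∈ I) (Y : Dual.D A) [IsIso (f • 𝟙 Y)] : Inv I L Y :=
  haveI := RHomCompLib.isIso_smul_map f (RHomCompLib.RHomR_map_smul_id f L) Y
  ⟨leftOrthogonal_of_isIso_smul hf Y, leftOrthogonal_of_isIso_smul hf _⟩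

theorem inv_of_isZero {Z : Dual.D A} (h : IsZero Z) : Inv I L Z := by
  refine ⟨fun W g _ => h.eq_of_src g 0, fun W g _ => ?_⟩
  have h0 : 𝟙 ((RHomR A L).obj Z) = 0 :=
    ((rhomAdj A L).homEquiv _ _).symm.injective (h.eq_of_tgt _ _)
  rw [← Category.id_comp g, h0, zero_comp]

theorem inv_resD_shift {f : A} (hf : f ∈ I) (G : Dual.D (Localization.Away f)) :
    Inv I L (((resD f).obj G)⟦(1 : ℤ)⟧) := by
  haveI : IsIso (f • 𝟙 ((resD f).obj G)) := isIso_smul_resD f G
  haveI : IsIso (f • 𝟙 (((resD f).obj G)⟦(1 : ℤ)⟧)) := by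
    rw [← DerLib.NilpTest.smul_shift]
    infer_instance
  exact inv_of_isIso_smul L hf _

/-- `RHom` into a complete object is complete. -/
theorem comp_RHomR {f : A} {B : Dual.D A} (hB : Comp f B) : Comp f ((RHomR A L).obj B) := by
  refine (DCompLib.comp_iff_forall f).2 fun X => ?_
  haveI : IsIso (f • 𝟙 ((resD f).obj X)) := isIso_smul_resD f X
  haveI := RHomCompLib.isIso_smul_map f (RHomCompLib.tensorRightD_map_smul_id f L) ((resD f).obj X)
  haveI := isIso_toLocD f ((tensorRightD A L).obj ((resD f).obj X))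
  haveI : Subsingleton ((tensorRightD A L).obj ((resD f).obj X) ⟶ B) := by
    have h := (DCompLib.comp_iff_forall f).1 hB ((extD f).obj ((tensorRightD A L).obj ((resD f).obj X)))
    exact ⟨fun a b => (cancel_epi (inv (DRingLib.toLocD f _))).1 (h.elim _ _)⟩
  exact ((rhomAdj A L).homEquiv _ B).symm.subsingleton

theorem isDerivedComplete_RHomR' {B : Dual.D A} (hB : DRing.IsDerivedComplete I B) :
    DRing.IsDerivedComplete I ((RHomR A L).obj B) := fun f hf => comp_RHomR L (hB f hf)

theorem inv_ext {K : DRing.Cx A} (T : Triangle (Dual.D A)) (hT : T ∈ Pretriangulated.distinguishedTriangles)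
    (h₁ : Inv I (DerivedCategory.Q.obj K) T.obj₁) (h₃ : Inv I (DerivedCategory.Q.obj K) T.obj₃) :
    Inv I (DerivedCategory.Q.obj K) T.obj₂ := by
  refine ⟨(DRing.IsDerivedComplete I).leftOrthogonal.ext_of_isTriangulatedClosed₂ T hT h₁.1 h₃.1, ?_⟩
  obtain ⟨T', hT', d₁, d₂, d₃, -, -⟩ := isTri_RHomR K T hT
  exact ObjectProperty.prop_of_iso _ d₂
    ((DRing.IsDerivedComplete I).leftOrthogonal.ext_of_isTriangulatedClosed₂ T' hT'
      (ObjectProperty.prop_of_iso _ d₁.symm h₁.2) (ObjectProperty.prop_of_iso _ d₃.symm h₃.2))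

theorem exists_decomp_inv (K : DRing.Cx A) (l : List A) (hl : ∀ f ∈ l, f ∈ I) (X : Dual.D A) :
    ∃ (B Z : Dual.D A) (q : X ⟶ B) (r : B ⟶ Z) (s : Z ⟶ X⟦(1 : ℤ)⟧),
      Triangle.mk q r s ∈ Pretriangulated.distinguishedTriangles ∧ (∀ f ∈ l, Comp f B) ∧
        Inv I (DerivedCategory.Q.obj K) Z := by
  induction l with
  | nil =>
    exact ⟨X, _, 𝟙 X, 0, 0, Pretriangulated.contractible_distinguished X, by simp,
      inv_of_isZero _ (isZero_zero _)⟩
  | cons f l ih =>
    obtain ⟨B, Z, q, r, s, hT, hB, hZ⟩ := ih fun g hg => hl g (List.mem_cons_of_mem _ hg)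
    obtain ⟨G, C, ε, q', δ, hT', hC, hε⟩ := DCompLib.exists_step f B
    obtain ⟨Z', r', s', hT''⟩ := Pretriangulated.distinguished_cocone_triangle (q ≫ q')
    have hrot := Pretriangulated.rot_of_distTriang _ hT'
    let o := Triangulated.someOctahedron rfl hT hrot hT''
    refine ⟨C, Z', q ≫ q', r', s', hT'', ?_, ?_⟩
    · intro g hg
      rcases List.mem_cons.1 hg with rfl | hg
      · exact hC
      · exact DCompLib.Comp.of_distTriang _ hrot (hB g hg)
          (DCompLib.Comp.shift (DCompLib.comp_coRes f (hB g hg) ε hε) 1)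
    · exact inv_ext _ o.mem hZ (inv_resD_shift _ (hl f (List.mem_cons_self ..)) G)

/-- A triangle with complete middle and invisible third term is a reflection. -/
theorem isRefl_of_isTri {a b c : Dual.D A} {f : a ⟶ b} {g : b ⟶ c} (h : IsTri f g)
    (hb : DRing.IsDerivedComplete I b) (hc : (DRing.IsDerivedComplete I).leftOrthogonal c) :
    DCompLib.IsRefl I f := by
  obtain ⟨T, hT, d₁, d₂, d₃, w₁, -⟩ := h
  have hr : DCompLib.IsRefl I T.mor₁ := DCompLib.isRefl_of_triangle hT
    (ObjectProperty.prop_of_iso _ d₂.symm hb) (ObjectProperty.prop_of_iso _ d₃.symm hc)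
  refine ⟨hb, fun Y hY => ?_⟩
  have := d₁.homFromEquiv.bijective.comp ((hr.2 Y hY).comp d₂.symm.homFromEquiv.bijective)
  convert this using 1
  funext t
  show f ≫ t = d₁.inv ≫ T.mor₁ ≫ d₂.hom ≫ t
  rw [← reassoc_of% w₁, Iso.inv_hom_id_assoc]

/-- `RHom(K, -)` preserves reflections. -/
theorem isRefl_RHomR_map (hI : I.FG) (K : DRing.Cx A) {X B' : Dual.D A} {q' : X ⟶ B'}
    (hq' : DCompLib.IsRefl I q') :
    DCompLib.IsRefl I ((RHomR A (DerivedCategory.Q.obj K)).map q') := by
  obtain ⟨s, rfl⟩ := hI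
  obtain ⟨B, Z, q, r, t, hT, hB, hZ⟩ := exists_decomp_inv (I := Ideal.span (s : Set A)) K s.toList
    (fun f hf => Ideal.subset_span (Finset.mem_toList.1 hf)) X
  have hBc : DRing.IsDerivedComplete (Ideal.span (s : Set A)) B :=
    DCompLib.isDerivedComplete_span_iff.2 fun f hf => hB f (Finset.mem_toList.2 hf)
  have hq := DCompLib.isRefl_of_triangle hT hBc hZ.1
  obtain ⟨a, ha⟩ := (hq.2 _ hq'.1).2 q'
  obtain ⟨b, hb⟩ := (hq'.2 _ hq.1).2 q
  simp only at ha hb
  let e : B ≅ B' := ⟨a, b, (hq.2 _ hq.1).1 (by simp only []; rw [← Category.assoc, ha, hb, Category.comp_id]),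
    (hq'.2 _ hq'.1).1 (by simp only []; rw [← Category.assoc, hb, ha, Category.comp_id])⟩
  have hG := isRefl_of_isTri (isTri_RHomR K _ hT) (isDerivedComplete_RHomR' _ hBc) hZ.2
  refine ⟨isDerivedComplete_RHomR' _ hq'.1, fun Y hY => ?_⟩
  have := (hG.2 Y hY).comp ((RHomR A (DerivedCategory.Q.obj K)).mapIso e).symm.homFromEquiv.bijective
  refine (congrArg Function.Bijective (funext fun φ => ?_)).mpr this
  show (RHomR A (DerivedCategory.Q.obj K)).map q' ≫ φ =
    (RHomR A (DerivedCategory.Q.obj K)).map q ≫ (RHomR A (DerivedCategory.Q.obj K)).map a ≫ φ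
  rw [← Functor.map_comp_assoc, ha]

/-- Transport of a reflection along a natural isomorphism. -/
theorem isRefl_map_of_natIso {F G : Dual.D A ⥤ Dual.D A} (e : F ≅ G) {X B : Dual.D A} {q : X ⟶ B}
    (h : DCompLib.IsRefl I (G.map q)) : DCompLib.IsRefl I (F.map q) := by
  refine ⟨ObjectProperty.prop_of_iso _ (e.app B).symm h.1, fun Y hY => ?_⟩
  have := (e.app X).symm.homFromEquiv.bijective.comp ((h.2 Y hY).comp (e.app B).homFromEquiv.bijective)
  convert this using 1
  funext φ
  show F.map q ≫ φ = e.hom.app X ≫ G.map q ≫ e.inv.app B ≫ φ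
  rw [← NatTrans.naturality_assoc, Iso.hom_inv_id_app_assoc]

end DCompRHomLib

end
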