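import Groth.Agent.RHomCompLib.Compare
import Groth.Agent.ShriekRingLib.DualBase

/-!
# `RHom` is exact in the second variable
-/

set_option autoImplicit false
set_option linter.all false
set_option maxHeartbeats 1000000

universe u

open CategoryTheory CategoryTheory.Limits CategoryTheory.Pretriangulated CochainComplex.HomComplex
open Groth.Agent DTen DTenLib
open Groth.Agent.DerLib

attribute [local instance] HasDerivedCategory.standard

noncomputable section

namespace DCompRHomLib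

variable {A : Type u} [CommRing A]

theorem isKInjective_cone {R R' : DRing.Cx A} [R.IsKInjective] [R'.IsKInjective] (e : R ⟶ R') :
    CochainComplex.IsKInjective (CochainComplex.mappingCone e) := by
  rw [CochainComplex.isKInjective_iff_rightOrthogonal]
  exact (HomotopyCategory.subcategoryAcyclic (ModuleCat.{u} A)).rightOrthogonal.ext_of_isTriangulatedClosed₃
    (CochainComplex.mappingCone.triangleh e)
    (HomotopyCategory.mappingCone_triangleh_distinguished e)
    (CochainComplex.IsKInjective.rightOrthogonal R) (CochainComplex.IsKInjective.rightOrthogonal R')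

/-- A distinguished triangle begins as a degreewise split sequence of K-injective complexes. -/
theorem exists_split_rep_kinj (T : Triangle (Dual.D A)) (hT : T ∈ distTriang (Dual.D A)) :
    ∃ (S : ShortComplex (DRing.Cx A)) (_ : KFlatLib.DegSplit S)
      (_ : S.X₁.IsKInjective) (_ : S.X₂.IsKInjective) (_ : S.X₃.IsKInjective)
      (e₁ : DerivedCategory.Q.obj S.X₁ ≅ T.obj₁) (e₂ : DerivedCategory.Q.obj S.X₂ ≅ T.obj₂)
      (e₃ : DerivedCategory.Q.obj S.X₃ ≅ T.obj₃),
      e₁.hom ≫ T.mor₁ = DerivedCategory.Q.map S.f ≫ e₂.hom ∧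
      e₂.hom ≫ T.mor₂ = DerivedCategory.Q.map S.g ≫ e₃.hom := by
  obtain ⟨P₀, R₀, φ₀, ⟨e₀⟩⟩ :=
    (DerivedCategory.mem_distTriang_iff _).1 (inv_rot_of_distTriang T hT)
  obtain ⟨I, ⟨hI, ⟨eI⟩⟩⟩ := KInjUse.exists_iso_Q_kInjective (DerivedCategory.Q.obj P₀)
  obtain ⟨J, ⟨hJ, ⟨eJ⟩⟩⟩ := KInjUse.exists_iso_Q_kInjective (DerivedCategory.Q.obj R₀)
  haveI := hI
  haveI := hJ
  obtain ⟨φ, hφ⟩ := KInjUse.Q_map_surjective I J (eI.inv ≫ DerivedCategory.Q.map φ₀ ≫ eJ.hom)
  let e := e₀ ≪≫ isoTriangleOfIso₁₂ _ _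
    (DerivedCategory.mappingCone_triangle_distinguished φ₀)
    (DerivedCategory.mappingCone_triangle_distinguished φ) eI eJ
    (by
      show DerivedCategory.Q.map φ₀ ≫ eJ.hom = eI.hom ≫ DerivedCategory.Q.map φ
      rw [hφ, eI.hom_inv_id_assoc])
  let e' := (rotate (Dual.D A)).mapIso e.symm ≪≫ ((triangleRotation (Dual.D A)).counitIso.app T)
  let c : DerivedCategory.Q.obj (I⟦(1 : ℤ)⟧) ≅
      (DerivedCategory.Q.mapTriangle.obj (CochainComplex.mappingCone.triangle φ)).rotate.obj₃ :=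
    (DerivedCategory.Q.commShiftIso (1 : ℤ)).app _
  refine ⟨CochainComplex.mappingCone.triangleRotateShortComplex φ,
    CochainComplex.mappingCone.triangleRotateShortComplexSplitting φ,
    hJ, isKInjective_cone φ, inferInstanceAs ((I⟦(1 : ℤ)⟧).IsKInjective),
    Triangle.π₁.mapIso e', Triangle.π₂.mapIso e', c ≪≫ Triangle.π₃.mapIso e', ?_, ?_⟩
  · exact e'.hom.comm₁.symm
  · refine e'.hom.comm₂.symm.trans ?_
    show _ = _ ≫ c.hom ≫ e'.hom.hom₃
    rw [← Category.assoc]
    rfl

/-- Postcomposition with a family of maps. -/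
def postLin (K : DRing.Cx A) {L L' : DRing.Cx A} (a : ∀ q, L.X q ⟶ L'.X q) (i : ℤ) :
    (DRing.homCx K L).X i ⟶ (DRing.homCx K L').X i :=
  ModuleCat.ofHom
    { toFun := fun z => Cochain.mk fun q q' h => (ap z).v q q' h ≫ a q'
      map_add' := fun z z' => Cochain.ext _ _ fun q q' h => by
        show (ap z + ap z').v q q' h ≫ a q' = (ap z).v q q' h ≫ a q' + (ap z').v q q' h ≫ a q'
        rw [Cochain.add_v, Preadditive.add_comp]
      map_smul' := fun c z => Cochain.ext _ _ fun q q' h => by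
        show (c • ap z).v q q' h ≫ a q' = c • ((ap z).v q q' h ≫ a q')
        rw [Cochain.smul_v, Linear.smul_comp] }

theorem homCxMap_f (K : DRing.Cx A) {L L' : DRing.Cx A} (b : L ⟶ L') (i : ℤ) :
    (DRing.homCxMap K b).f i = postLin K (fun q => b.f q) i :=
  ModuleCat.hom_ext (LinearMap.ext fun z => Cochain.ext _ _ fun q q' h =>
    Cochain.comp_zero_cochain_v (ap z) (Cochain.ofHom b) q q' h |>.trans
      (congrArg ((ap z).v q q' h ≫ ·) (Cochain.ofHom_v b q')))

theorem comp_split_id {M N P Q : ModuleCat.{u} A} (x : M ⟶ N) (r : N ⟶ P) (f : P ⟶ N) (g : N ⟶ Q) (s : Q ⟶ N)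
    (h : r ≫ f + g ≫ s = 𝟙 N) : (x ≫ r) ≫ f + (x ≫ g) ≫ s = x := by
  rw [Category.assoc, Category.assoc, ← Preadditive.comp_add, h, Category.comp_id]

/-- Hom into a degreewise split sequence. -/
theorem shortExact_homCxMap {S : ShortComplex (DRing.Cx A)} (hS : KFlatLib.DegSplit S) (K : DRing.Cx A)
    (w : DRing.homCxMap K S.f ≫ DRing.homCxMap K S.g = 0) :
    (ShortComplex.mk (DRing.homCxMap K S.f) (DRing.homCxMap K S.g) w).ShortExact := by
  refine HomologicalComplex.shortExact_of_degreewise_shortExact _ fun i => ShortComplex.Splitting.shortExact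
    { r := postLin K (fun q => (hS q).r) i
      s := postLin K (fun q => (hS q).s) i
      f_r := ?_
      s_g := ?_
      id := ?_ }
  · show (DRing.homCxMap K S.f).f i ≫ postLin K (fun q => (hS q).r) i = 𝟙 _
    rw [homCxMap_f]
    refine ModuleCat.hom_ext (LinearMap.ext fun z => Cochain.ext _ _ fun q q' h => ?_)
    show ((ap z).v q q' h ≫ S.f.f q') ≫ (hS q').r = (ap z).v q q' h
    exact (Category.assoc _ _ _).trans ((congrArg ((ap z).v q q' h ≫ ·) (hS q').f_r).trans (Category.comp_id _))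
  · show postLin K (fun q => (hS q).s) i ≫ (DRing.homCxMap K S.g).f i = 𝟙 _
    rw [homCxMap_f]
    refine ModuleCat.hom_ext (LinearMap.ext fun z => Cochain.ext _ _ fun q q' h => ?_)
    show ((ap z).v q q' h ≫ (hS q').s) ≫ S.g.f q' = (ap z).v q q' h
    exact (Category.assoc _ _ _).trans ((congrArg ((ap z).v q q' h ≫ ·) (hS q').s_g).trans (Category.comp_id _))
  · show postLin K (fun q => (hS q).r) i ≫ (DRing.homCxMap K S.f).f i +
      (DRing.homCxMap K S.g).f i ≫ postLin K (fun q => (hS q).s) i = 𝟙 _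
    rw [homCxMap_f, homCxMap_f]
    refine ModuleCat.hom_ext (LinearMap.ext fun z => Cochain.ext _ _ fun q q' h => ?_)
    show ((ap z).v q q' h ≫ (hS q').r) ≫ S.f.f q' + ((((ap z).v q q' h ≫ S.g.f q') ≫ (hS q').s : K.X q ⟶ S.X₂.X q')) = (ap z).v q q' h
    exact comp_split_id ((ap z).v q q' h) _ _ _ _ (hS q').id

variable [HasLTen A] [HasRHom A]

/-- `RHom` into a varying object is exact on distinguished triangles. -/
theorem isTri_RHomR (K : DRing.Cx A) (T : Triangle (Dual.D A)) (hT : T ∈ distTriang (Dual.D A)) :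
    IsTri ((RHomR A (DerivedCategory.Q.obj K)).map T.mor₁) ((RHomR A (DerivedCategory.Q.obj K)).map T.mor₂) := by
  obtain ⟨S, hS, h₁, h₂, h₃, e₁, e₂, e₃, w₁, w₂⟩ := exists_split_rep_kinj T hT
  let G := RHomR A (DerivedCategory.Q.obj K)
  have w : DRing.homCxMap K S.f ≫ DRing.homCxMap K S.g = 0 := by
    refine HomologicalComplex.hom_ext _ _ fun i => ?_
    rw [HomologicalComplex.comp_f, homCxMap_f, homCxMap_f]
    refine ModuleCat.hom_ext (LinearMap.ext fun z => Cochain.ext _ _ fun q q' h => ?_)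
    show ((ap z).v q q' h ≫ S.f.f q') ≫ S.g.f q' = 0
    rw [Category.assoc, ← HomologicalComplex.comp_f, S.zero, HomologicalComplex.zero_f, comp_zero]
  have hbase : IsTri (DerivedCategory.Q.map (DRing.homCxMap K S.f)) (DerivedCategory.Q.map (DRing.homCxMap K S.g)) :=
    IsTri.of_dist _ (DerivedCategory.triangleOfSES_distinguished (shortExact_homCxMap hS K w))
  let i : ∀ {I : DRing.Cx A} {X : Dual.D A}, I.IsKInjective → (DerivedCategory.Q.obj I ≅ X) →
      (DerivedCategory.Q.obj (DRing.homCx K I) ≅ G.obj X) :=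
    fun {I _} hI f => (@asIso _ _ _ _ _ (RHomCompLib.isIso_θNat K I hI)) ≪≫ G.mapIso f
  have key : ∀ {I J : DRing.Cx A} {X Y : Dual.D A} (hI : I.IsKInjective) (hJ : J.IsKInjective)
      (f : DerivedCategory.Q.obj I ≅ X) (f' : DerivedCategory.Q.obj J ≅ Y) (a : I ⟶ J) (b : X ⟶ Y),
      f.hom ≫ b = DerivedCategory.Q.map a ≫ f'.hom →
      (i hI f).hom ≫ G.map b = DerivedCategory.Q.map (DRing.homCxMap K a) ≫ (i hJ f').hom := by
    intro I J X Y hI hJ f f' a b hab
    show ((RHomCompLib.θNat K).app I ≫ G.map f.hom) ≫ G.map b =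
      DerivedCategory.Q.map (DRing.homCxMap K a) ≫ (RHomCompLib.θNat K).app J ≫ G.map f'.hom
    rw [Category.assoc, ← Functor.map_comp, hab, Functor.map_comp]
    exact (reassoc_of% ((RHomCompLib.θNat K).naturality a)) _ |>.symm
  exact hbase.of_iso (i h₁ e₁) (i h₂ e₂) (i h₃ e₃) (key h₁ h₂ e₁ e₂ S.f _ w₁) (key h₂ h₃ e₂ e₃ S.g _ w₂)

end DCompRHomLib
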